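import Groth.Agent.CSA.Morita
import Mathlib.Algebra.Algebra.Subalgebra.Centralizer
import Mathlib.Algebra.Central.End
import Mathlib.Algebra.Central.TensorProduct
import Mathlib.RingTheory.SimpleRing.Congr
import Mathlib.RingTheory.SimpleRing.Matrix

/-!
# Centralizers of simple subalgebras of central simple algebras
-/

set_option autoImplicit false

open TensorProduct

namespace Groth.Agent.CSACentralizer

universe u v w

variable (k : Type u) [Field k]

theorem isSimpleRing_end (V : Type v) [AddCommGroup V] [Module k V] [FiniteDimensional k V]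
    [Nontrivial V] : IsSimpleRing (Module.End k V) := by
  classical
  let b := Module.finBasis k V
  have : Nonempty (Fin (Module.finrank k V)) := ⟨⟨0, Module.finrank_pos⟩⟩
  exact .of_ringEquiv (algEquivMatrix b).symm.toRingEquiv inferInstance

theorem isSimpleRing_of_tensor (A : Type v) [Ring A] [Algebra k A] [Nontrivial A]
    (B : Type w) [Ring B] [Algebra k B] [Nontrivial B] [IsSimpleRing (A ⊗[k] B)] :
    IsSimpleRing A := by
  refine .of_eq_bot_or_eq_top fun I => ?_
  by_cases h : (1 : A) ∈ I
  · exact Or.inr (I.eq_top h)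
  left
  let q : A →ₐ[k] I.ringCon.Quotient :=
    { I.ringCon.mk' with commutes' := fun r => rfl }
  have hq : ∀ x : A, q x = 0 ↔ x ∈ I := fun x => by
    rw [TwoSidedIdeal.mem_iff, ← RingCon.eq]; rfl
  have : Nontrivial I.ringCon.Quotient := ⟨⟨q 1, 0, fun e => h ((hq 1).1 e)⟩⟩
  let g : A ⊗[k] B →ₐ[k] I.ringCon.Quotient ⊗[k] B :=
    Algebra.TensorProduct.map q (AlgHom.id k B)
  have hg : Function.Injective g := RingHom.injective g.toRingHom
  refine le_bot_iff.1 fun x hx => (TwoSidedIdeal.mem_bot _).2 ?_
  have h1 : g (x ⊗ₜ 1) = g 0 := by simp [g, (hq x).2 hx]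
  have h2 := hg h1
  exact (Algebra.TensorProduct.includeLeft_injective (R := k) (S := k) (A := A)
    (RingHom.injective (algebraMap k B))) (a₂ := 0) (by simpa using h2)

variable (A : Type v) [Ring A] [Algebra k A]
  [Algebra.IsCentral k A] [IsSimpleRing A] [FiniteDimensional k A]
  (B : Subalgebra k A) [IsSimpleRing B]

theorem key : (∃ C' : Subalgebra k (A ⊗[k] Module.End k B),
    Nonempty ((Subalgebra.centralizer k (B : Set A)) ⊗[k] Module.End k B ≃ₐ[k] C') ∧
    Nonempty (A ⊗[k] (↥B)ᵐᵒᵖ ≃ₐ[k] C')) := by
  classical
  have := isSimpleRing_end k B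
  have := CSA.isSimpleRing_tensor_left k A (Module.End k B)
  have := CSA.isCentral_tensor_csa k A (Module.End k B)
  let f : B →ₐ[k] A ⊗[k] Module.End k B := Algebra.TensorProduct.includeLeft.comp B.val
  let g : B →ₐ[k] A ⊗[k] Module.End k B :=
    Algebra.TensorProduct.includeRight.comp (Algebra.lmul k B)
  obtain ⟨u, hu⟩ := CSA.skolem_noether k (A ⊗[k] Module.End k B) B g f
  -- centralizer of the range of `f`
  let φ : (Subalgebra.centralizer k (B : Set A)) ⊗[k] Module.End k B →ₐ[k] A ⊗[k] Module.End k B :=
    Algebra.TensorProduct.map (Subalgebra.centralizer k (B : Set A)).val (AlgHom.id k _)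
  have hφ : Function.Injective φ :=
    Module.Flat.rTensor_preserves_injective_linearMap
      (Subalgebra.centralizer k (B : Set A)).val.toLinearMap Subtype.val_injective
  have hf : φ.range = Subalgebra.centralizer k (Set.range f) := by
    rw [← Subalgebra.centralizer_coe_map_includeLeft_eq_center_tensorProduct]
    congr 1
    ext x
    simp [f]
  refine ⟨Subalgebra.centralizer k (Set.range f),
    ⟨(AlgEquiv.ofInjective φ hφ).trans (Subalgebra.equivOfEq _ _ hf)⟩, ?_⟩
  -- centralizer of the range of `g`
  let ρ : (↥B)ᵐᵒᵖ →ₐ[k] Module.End k B :=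
    (AlgHom.mulLeftRight k B).comp Algebra.TensorProduct.includeRight
  have hρ : ∀ b x, ρ b x = x * b.unop := fun b x => by simp [ρ]
  let ψ : A ⊗[k] (↥B)ᵐᵒᵖ →ₐ[k] A ⊗[k] Module.End k B :=
    Algebra.TensorProduct.map (AlgHom.id k A) ρ
  have hρi : Function.Injective ρ := RingHom.injective ρ.toRingHom
  have hψ : Function.Injective ψ :=
    Module.Flat.lTensor_preserves_injective_linearMap ρ.toLinearMap hρi
  have hg : ψ.range = Subalgebra.centralizer k (Set.range g) := by
    have hr : ρ.range = Subalgebra.centralizer k (Set.range (Algebra.lmul k B)) := by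
      ext F
      constructor
      · rintro ⟨b, rfl⟩ _ ⟨c, rfl⟩
        refine LinearMap.ext fun x => ?_
        simp [hρ, mul_assoc]
      · intro hF
        refine ⟨MulOpposite.op (F 1), LinearMap.ext fun x => ?_⟩
        have := congrArg (fun G : Module.End k B => G 1) (hF _ ⟨x, rfl⟩)
        simpa [hρ] using this
    have : g '' Set.univ = Algebra.TensorProduct.includeRight '' Set.range (Algebra.lmul k B) := by
      ext x; simp [g]
    rw [← Set.image_univ, this,
      Subalgebra.centralizer_coe_image_includeRight_eq_center_tensorProduct]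
    simp only [ψ, Algebra.TensorProduct.map_range, AlgHom.range_comp, Subalgebra.range_val, hr]
  let c : A ⊗[k] Module.End k B ≃ₐ[k] A ⊗[k] Module.End k B :=
    { toFun := fun x => u * x * (u⁻¹ : (A ⊗[k] Module.End k B)ˣ)
      invFun := fun x => (u⁻¹ : (A ⊗[k] Module.End k B)ˣ) * x * u
      left_inv := fun x => by simp [mul_assoc]
      right_inv := fun x => by simp [mul_assoc]
      map_mul' := fun x y => by simp [mul_assoc]
      map_add' := fun x y => by simp [mul_add, add_mul]
      commutes' := fun r => by rw [← Algebra.commutes]; simp }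
  have hc : ∀ b, c (g b) = f b := fun b => (hu b).symm
  have hconj : (Subalgebra.centralizer k (Set.range g)).map c.toAlgHom =
      Subalgebra.centralizer k (Set.range f) := by
    ext x
    simp only [Subalgebra.mem_map, Subalgebra.mem_centralizer_iff, Set.forall_mem_range,
      AlgEquiv.coe_toAlgHom]
    constructor
    · rintro ⟨y, hy, rfl⟩ b
      rw [← hc, ← map_mul, ← map_mul, hy b]
    · intro hx
      refine ⟨c.symm x, fun b => c.injective ?_, c.apply_symm_apply x⟩
      simpa [map_mul, hc] using hx b
  exact ⟨((AlgEquiv.ofInjective ψ hψ).trans (Subalgebra.equivOfEq _ _ hg)).trans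
    ((Subalgebra.equivMapOfInjective _ _ (AlgEquiv.injective _)).trans
      (Subalgebra.equivOfEq _ _ hconj))⟩

theorem isSimpleRing_centralizer :
    IsSimpleRing (Subalgebra.centralizer k (B : Set A)) := by
  obtain ⟨C', ⟨e⟩, ⟨e'⟩⟩ := key k A B
  have := CSA.isSimpleRing_tensor_left k A (↥B)ᵐᵒᵖ
  have : IsSimpleRing (Subalgebra.centralizer k (B : Set A) ⊗[k] Module.End k B) :=
    .of_ringEquiv (e'.trans e.symm).toRingEquiv this
  exact isSimpleRing_of_tensor k _ (Module.End k B)

theorem finrank_mul_finrank_centralizer :
    Module.finrank k B * Module.finrank k (Subalgebra.centralizer k (B : Set A)) =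
      Module.finrank k A := by
  obtain ⟨C', ⟨e⟩, ⟨e'⟩⟩ := key k A B
  have h := (e'.trans e.symm).toLinearEquiv.finrank_eq
  rw [Module.finrank_tensorProduct, Module.finrank_tensorProduct, Module.finrank_linearMap,
    ← (MulOpposite.opLinearEquiv k (M := B)).finrank_eq, ← mul_assoc] at h
  have := (Nat.eq_of_mul_eq_mul_right Module.finrank_pos h)
  rw [this, mul_comm]

theorem centralizer_centralizer :
    Subalgebra.centralizer k (Subalgebra.centralizer k (B : Set A) : Set A) = B := by
  have := isSimpleRing_centralizer k A B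
  have h1 := finrank_mul_finrank_centralizer k A B
  have h2 := finrank_mul_finrank_centralizer k A (Subalgebra.centralizer k (B : Set A))
  have hle : B ≤ Subalgebra.centralizer k (Subalgebra.centralizer k (B : Set A) : Set A) :=
    fun b hb c hc => (hc b hb).symm
  refine (Subalgebra.eq_of_le_of_finrank_eq hle ?_).symm
  refine Nat.eq_of_mul_eq_mul_left (n := Module.finrank k (Subalgebra.centralizer k (B : Set A)))
    Module.finrank_pos ?_
  rw [h2, ← h1, mul_comm]

theorem bijective_lift [Algebra.IsCentral k B] :
    Function.Bijective (Algebra.TensorProduct.lift B.val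
      (Subalgebra.centralizer k (B : Set A)).val (fun x y => y.2 x.1 x.2)) := by
  have := isSimpleRing_centralizer k A B
  have := CSA.isSimpleRing_tensor_left k B (Subalgebra.centralizer k (B : Set A))
  have hi : Function.Injective (Algebra.TensorProduct.lift B.val
      (Subalgebra.centralizer k (B : Set A)).val (fun x y => y.2 x.1 x.2)) :=
    RingHom.injective (AlgHom.toRingHom (Algebra.TensorProduct.lift B.val
      (Subalgebra.centralizer k (B : Set A)).val (fun x y => y.2 x.1 x.2)))
  refine ⟨hi, ?_⟩
  have hd : Module.finrank k (B ⊗[k] Subalgebra.centralizer k (B : Set A)) = Module.finrank k A := by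
    rw [Module.finrank_tensorProduct, finrank_mul_finrank_centralizer]
  exact (LinearMap.injective_iff_surjective_of_finrank_eq_finrank hd
    (f := (Algebra.TensorProduct.lift B.val (Subalgebra.centralizer k (B : Set A)).val
      (fun x y => y.2 x.1 x.2)).toLinearMap)).1 hi

end Groth.Agent.CSACentralizer
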