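import Groth.Agent.CSACentralizer.Basic
import Mathlib.FieldTheory.JacobsonNoether
import Mathlib.RingTheory.SimpleModule.IsAlgClosed
import Mathlib.FieldTheory.IsAlgClosed.AlgebraicClosure

/-!
# Maximal commutative subalgebras of central division algebras
-/

set_option autoImplicit false

open TensorProduct

namespace Groth.Agent.CSACentralizer

universe u v w

variable (k : Type u) [Field k]

theorem isSimpleRing_subalgebra (D : Type v) [DivisionRing D] [Algebra k D] [FiniteDimensional k D]
    (L : Subalgebra k D) : IsSimpleRing L :=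
  letI := divisionRingOfFiniteDimensional k L
  inferInstance

variable (D : Type v) [DivisionRing D] [Algebra k D]

theorem centralizer_eq_of_maximal (L : Subalgebra k D) (hcomm : ∀ x ∈ L, ∀ y ∈ L, x * y = y * x)
    (hmax : ∀ L' : Subalgebra k D, (∀ x ∈ L', ∀ y ∈ L', x * y = y * x) → L ≤ L' → L' = L) :
    Subalgebra.centralizer k (L : Set D) = L := by
  refine le_antisymm (fun x hx => ?_) (fun x hx y hy => hcomm y hy x hx)
  have hc : ∀ a ∈ insert x (L : Set D), ∀ b ∈ insert x (L : Set D), a * b = b * a := by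
    rintro a (rfl | ha) b (rfl | hb)
    · rfl
    · exact (hx b hb).symm
    · exact hx a ha
    · exact hcomm a ha b hb
  let L' := Algebra.adjoin k (insert x (L : Set D))
  let _ := Algebra.adjoinCommRingOfComm k hc
  have hL : L' = L := hmax L'
    (fun a ha b hb => congrArg Subtype.val (mul_comm (⟨a, ha⟩ : L') ⟨b, hb⟩))
    (fun y hy => Algebra.subset_adjoin (Set.mem_insert_of_mem _ hy))
  rw [← hL]
  exact Algebra.subset_adjoin (Set.mem_insert _ _)

theorem exists_larger_separable [Algebra.IsCentral k D] [FiniteDimensional k D] (L : Subalgebra k D)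
    (hcomm : ∀ x ∈ L, ∀ y ∈ L, x * y = y * x) (hsep : Algebra.IsSeparable k L)
    (hne : Subalgebra.centralizer k (L : Set D) ≠ L) :
    ∃ L' : Subalgebra k D, (∀ x ∈ L', ∀ y ∈ L', x * y = y * x) ∧ Algebra.IsSeparable k L' ∧
      L < L' := by
  have hle : L ≤ Subalgebra.centralizer k (L : Set D) := fun x hx y hy => hcomm y hy x hx
  let C := Subalgebra.centralizer k (L : Set D)
  let _ : DivisionRing C := divisionRingOfFiniteDimensional k C
  let _ : Field L :=
    { (inferInstance : Ring L), divisionRingOfFiniteDimensional k L with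
      mul_comm := fun a b => Subtype.ext (hcomm a a.2 b b.2) }
  let φ : L →+* C := (Subalgebra.inclusion hle).toRingHom
  let _ : Algebra L C := φ.toAlgebra' fun a c => Subtype.ext (c.2 a a.2)
  have : IsScalarTower k L C := .of_algebraMap_eq fun r => rfl
  have : FiniteDimensional L C := .right k L C
  have := isSimpleRing_subalgebra k D L
  have : Algebra.IsCentral L C := ⟨fun x hx => by
    have h1 : (x : D) ∈ Subalgebra.centralizer k (C : Set D) := fun y hy =>
      congrArg Subtype.val (Subalgebra.mem_center_iff.1 hx ⟨y, hy⟩)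
    rw [centralizer_centralizer k D L] at h1
    exact ⟨⟨x, h1⟩, Subtype.ext rfl⟩⟩
  have hneq : (⊥ : Subalgebra L C) ≠ ⊤ := fun h => hne (le_antisymm (fun x hx => by
    obtain ⟨a, ha⟩ := (h ▸ Algebra.mem_top : (⟨x, hx⟩ : C) ∈ (⊥ : Subalgebra L C))
    rw [← show (a : D) = x from congrArg Subtype.val ha]
    exact a.2) hle)
  obtain ⟨x, hx, hs⟩ := JacobsonNoether.exists_separable_and_not_isCentral' (L := L) (D := C) hneq
  have hxL : (x : D) ∉ L := fun h => hx ⟨⟨x, h⟩, Subtype.ext rfl⟩
  let E : Subalgebra L C := Algebra.adjoin L {x}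
  have hc : ∀ a ∈ ({x} : Set C), ∀ b ∈ ({x} : Set C), a * b = b * a := by simp
  let _ : CommRing E := Algebra.adjoinCommRingOfComm L hc
  have : IsDomain E := { }
  let _ : Field E := fieldOfFiniteDimensional L E
  have hsx : IsSeparable L (⟨x, Algebra.self_mem_adjoin_singleton L x⟩ : E) := by
    unfold IsSeparable at hs ⊢
    rwa [← minpoly.algHom_eq E.val Subtype.val_injective]
  have hgen : IntermediateField.adjoin L
      ({⟨x, Algebra.self_mem_adjoin_singleton L x⟩} : Set E) = ⊤ := by
    rw [← IntermediateField.toSubalgebra_injective.eq_iff, IntermediateField.top_toSubalgebra,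
      IntermediateField.adjoin_toSubalgebra]
    apply Subalgebra.map_injective (f := E.val) Subtype.val_injective
    rw [AlgHom.map_adjoin, Algebra.map_top, Subalgebra.range_val]
    simp [E]
  have hE : Algebra.IsSeparable L E := by
    have := (IntermediateField.isSeparable_adjoin_simple_iff_isSeparable L E).2 hsx
    rw [hgen] at this
    exact Algebra.IsSeparable.of_algHom L _ (IntermediateField.topEquiv (F := L) (E := E)).symm.toAlgHom
  have hEk : Algebra.IsSeparable k E := Algebra.IsSeparable.trans k L E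
  let ψ : E →ₐ[k] D := C.val.comp (E.val.restrictScalars k)
  refine ⟨ψ.range, ?_, ?_, ?_⟩
  · rintro _ ⟨a, rfl⟩ _ ⟨b, rfl⟩
    rw [← map_mul, ← map_mul, mul_comm]
  · exact Algebra.IsSeparable.of_equiv_equiv (RingEquiv.refl k)
      (AlgEquiv.ofInjective ψ (Subtype.val_injective.comp Subtype.val_injective)).toRingEquiv
      (by ext; rfl)
  · refine lt_of_le_not_ge (fun a ha => ⟨algebraMap L E ⟨a, ha⟩, rfl⟩) fun h => hxL (h ?_)
    exact ⟨⟨x, Algebra.self_mem_adjoin_singleton L x⟩, rfl⟩

theorem exists_separable_maximal [Algebra.IsCentral k D] [FiniteDimensional k D] :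
    ∃ L : Subalgebra k D, (∀ x ∈ L, ∀ y ∈ L, x * y = y * x) ∧
      (∀ L' : Subalgebra k D, (∀ x ∈ L', ∀ y ∈ L', x * y = y * x) → L ≤ L' → L' = L) ∧
      Algebra.IsSeparable k L := by
  have h0 : Algebra.IsSeparable k (⊥ : Subalgebra k D) :=
    Algebra.IsSeparable.of_equiv_equiv (RingEquiv.refl k) (Algebra.botEquiv k D).symm.toRingEquiv
      (by ext; rfl)
  let S : Set (Subalgebra k D) :=
    {L | (∀ x ∈ L, ∀ y ∈ L, x * y = y * x) ∧ Algebra.IsSeparable k L}
  let T : Set ℕ := (fun L : Subalgebra k D => Module.finrank k D - Module.finrank k L) '' S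
  have hne : T.Nonempty :=
    ⟨_, ⊥, ⟨by rintro _ ⟨a, rfl⟩ y -; exact Algebra.commutes a y, h0⟩, rfl⟩
  obtain ⟨L, ⟨hc, hs⟩, hL⟩ := WellFounded.min_mem Nat.lt_wfRel.wf T hne
  refine ⟨L, hc, fun L' hc' hle => le_antisymm ?_ hle, hs⟩
  have hC : Subalgebra.centralizer k (L : Set D) = L := by
    by_contra hne
    obtain ⟨L'', h1, h2, h3⟩ := exists_larger_separable k D L hc hs hne
    refine WellFounded.not_lt_min Nat.lt_wfRel.wf T (x := Module.finrank k D - Module.finrank k L'')
      ⟨L'', ⟨h1, h2⟩, rfl⟩ ?_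
    rw [← hL]
    have : Module.finrank k L < Module.finrank k L'' :=
      Submodule.finrank_lt_finrank_of_lt (s := Subalgebra.toSubmodule L)
        (t := Subalgebra.toSubmodule L'') h3
    have : Module.finrank k L'' ≤ Module.finrank k D := Subalgebra.toSubmodule L'' |>.finrank_le
    show Module.finrank k D - Module.finrank k L'' < Module.finrank k D - Module.finrank k L
    omega
  exact fun x hx => hC ▸ fun y hy => hc' y (hle hy) x hx

theorem isSquare_finrank (A : Type v) [Ring A] [Algebra k A]
    [Algebra.IsCentral k A] [IsSimpleRing A] [FiniteDimensional k A] :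
    IsSquare (Module.finrank k A) := by
  have := CSA.isSimpleRing_baseChange k A (AlgebraicClosure k)
  obtain ⟨n, -, ⟨e⟩⟩ :=
    IsSimpleRing.exists_algEquiv_matrix_of_isAlgClosed (AlgebraicClosure k) (AlgebraicClosure k ⊗[k] A)
  refine ⟨n, ?_⟩
  rw [← Module.finrank_baseChange (R := AlgebraicClosure k), e.toLinearEquiv.finrank_eq,
    Module.finrank_matrix]
  simp

theorem isSimpleModule_pi (n : ℕ) (hn : n ≠ 0) :
    IsSimpleModule (Matrix (Fin n) (Fin n) D) (Fin n → D) := by
  have : Nonempty (Fin n) := ⟨⟨0, Nat.pos_of_ne_zero hn⟩⟩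
  refine isSimpleModule_iff_toSpanSingleton_surjective.2 ⟨inferInstance, fun v hv w => ?_⟩
  obtain ⟨i, hi⟩ := Function.ne_iff.1 hv
  refine ⟨Matrix.of fun j l => if l = i then w j * (v i)⁻¹ else 0, ?_⟩
  ext j
  simp only [LinearMap.toSpanSingleton_apply]
  show Matrix.mulVec _ v j = _
  simp [Matrix.mulVec, dotProduct, mul_assoc, inv_mul_cancel₀ (show v i ≠ 0 from hi)]

end Groth.Agent.CSACentralizer
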