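import Groth.Agent.CSACentralizer.DivisionRing
import Groth.Prelude.Def_Curves
import Mathlib.Algebra.BrauerGroup.Defs
import Mathlib.RingTheory.Finiteness.Descent
import Mathlib.FieldTheory.Normal.Closure
import Mathlib.FieldTheory.Galois.Basic
import Mathlib.FieldTheory.IsSepClosed
import Mathlib.Data.Matrix.Composition

/-!
# Splitting fields of central simple algebras
-/

set_option autoImplicit false

open TensorProduct

namespace Groth.Agent.CSACentralizer

universe u v w w'

variable (k : Type u) [Field k]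

section Splits

variable (A : Type v) [Ring A] [Algebra k A] [Algebra.IsCentral k A] [IsSimpleRing A]
  [FiniteDimensional k A] (K : Type w) [Field K] [Algebra k K]

theorem splits_of_algHom (N : ℕ) (φ : A →ₐ[k] Matrix (Fin N) (Fin N) K)
    (hN : N * N = Module.finrank k A) : Curves.Splits k A K := by
  have hN0 : N ≠ 0 := by
    rintro rfl
    exact (Module.finrank_pos (R := k) (M := A)).ne (by simpa using hN)
  have : Nonempty (Fin N) := ⟨⟨0, Nat.pos_of_ne_zero hN0⟩⟩
  have := CSA.isSimpleRing_baseChange k A K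
  let ψ : K ⊗[k] A →ₐ[K] Matrix (Fin N) (Fin N) K :=
    Algebra.TensorProduct.lift (Algebra.ofId K _) φ fun c a => Algebra.commutes c (φ a)
  have hi : Function.Injective ψ := RingHom.injective ψ.toRingHom
  have hd : Module.finrank K (K ⊗[k] A) = Module.finrank K (Matrix (Fin N) (Fin N) K) := by
    rw [Module.finrank_baseChange, Module.finrank_matrix, ← hN]
    simp
  exact ⟨N, hN0, ⟨AlgEquiv.ofBijective ψ
    ⟨hi, (LinearMap.injective_iff_surjective_of_finrank_eq_finrank hd (f := ψ.toLinearMap)).1 hi⟩⟩⟩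

omit [Algebra.IsCentral k A] [IsSimpleRing A] [FiniteDimensional k A] in
theorem exists_algHom_of_splits (h : Curves.Splits k A K) :
    ∃ (N : ℕ) (_ : N * N = Module.finrank k A), N ≠ 0 ∧
      Nonempty (A →ₐ[k] Matrix (Fin N) (Fin N) K) := by
  obtain ⟨N, hN, ⟨e⟩⟩ := h
  refine ⟨N, ?_, hN, ⟨(e.restrictScalars k).toAlgHom.comp Algebra.TensorProduct.includeRight⟩⟩
  rw [← Module.finrank_baseChange (R := K), e.toLinearEquiv.finrank_eq, Module.finrank_matrix]
  simp

theorem splits_of_algHom_field (L : Type w') [Field L] [Algebra k L] (f : L →ₐ[k] K)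
    (h : Curves.Splits k A L) : Curves.Splits k A K := by
  obtain ⟨N, hN, -, ⟨φ⟩⟩ := exists_algHom_of_splits k A L h
  exact splits_of_algHom k A K N (f.mapMatrix.comp φ) hN

theorem splits_algEquiv (B : Type w') [Ring B] [Algebra k B] [Algebra.IsCentral k B]
    [IsSimpleRing B] [FiniteDimensional k B] (e : A ≃ₐ[k] B) (h : Curves.Splits k B K) :
    Curves.Splits k A K := by
  obtain ⟨N, hN, -, ⟨φ⟩⟩ := exists_algHom_of_splits k B K h
  exact splits_of_algHom k A K N (φ.comp e.toAlgHom) (hN.trans e.toLinearEquiv.finrank_eq.symm)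

theorem splits_mulOpposite (h : Curves.Splits k A K) : Curves.Splits k Aᵐᵒᵖ K := by
  obtain ⟨N, hN, -, ⟨φ⟩⟩ := exists_algHom_of_splits k A K h
  have := CSA.finiteDimensional_mulOpposite k A
  exact splits_of_algHom k Aᵐᵒᵖ K N
    (((Matrix.transposeAlgEquiv (Fin N) k K).symm.toAlgHom).comp (AlgHom.op φ))
    (hN.trans (MulOpposite.opLinearEquiv k (M := A)).finrank_eq)

theorem splits_matrix (n : ℕ) (hn : n ≠ 0) (h : Curves.Splits k A K)
    [Algebra.IsCentral k (Matrix (Fin n) (Fin n) A)] :
    Curves.Splits k (Matrix (Fin n) (Fin n) A) K := by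
  have : Nonempty (Fin n) := ⟨⟨0, Nat.pos_of_ne_zero hn⟩⟩
  obtain ⟨N, hN, -, ⟨φ⟩⟩ := exists_algHom_of_splits k A K h
  refine splits_of_algHom k _ K (n * N)
    ((((Matrix.compAlgEquiv (Fin n) (Fin N) K k).trans
      (Matrix.reindexAlgEquiv k K finProdFinEquiv))).toAlgHom.comp φ.mapMatrix) ?_
  rw [Module.finrank_matrix, ← hN, Fintype.card_fin]
  ring

end Splits

theorem isCentral_of_matrix (D : Type v) [Ring D] [Algebra k D] (n : ℕ) (hn : n ≠ 0)
    [Algebra.IsCentral k (Matrix (Fin n) (Fin n) D)] : Algebra.IsCentral k D := by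
  refine ⟨fun x hx => ?_⟩
  have h : Matrix.scalar (Fin n) x ∈ Subalgebra.center k (Matrix (Fin n) (Fin n) D) :=
    Subalgebra.mem_center_iff.2 fun M => (Matrix.scalar_commute x
      (fun r => (Subalgebra.mem_center_iff.1 hx r).symm) M).symm
  obtain ⟨c, hc⟩ := Algebra.IsCentral.out (K := k) (D := Matrix (Fin n) (Fin n) D) h
  have hc' : algebraMap k (Matrix (Fin n) (Fin n) D) c = Matrix.scalar (Fin n) x := hc
  have := congrFun (congrFun hc' ⟨0, Nat.pos_of_ne_zero hn⟩) ⟨0, Nat.pos_of_ne_zero hn⟩
  exact ⟨c, by simpa [Matrix.scalar, Matrix.algebraMap_matrix_apply, Algebra.ofId_apply] using this⟩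

theorem isCentral_matrix (D : Type v) [Ring D] [Algebra k D] [Algebra.IsCentral k D] (n : ℕ) :
    Algebra.IsCentral k (Matrix (Fin n) (Fin n) D) := inferInstance

section Corner

variable (A : Type v) [Ring A] [Algebra k A] [Algebra.IsCentral k A] [IsSimpleRing A]
  [FiniteDimensional k A] (K : Type w) [Field K] [Algebra k K]

theorem splits_of_matrix (n : ℕ) (hn : n ≠ 0) (h : Curves.Splits k (Matrix (Fin n) (Fin n) A) K) :
    Curves.Splits k A K := by
  classical
  obtain ⟨N, hN, -, ⟨φ⟩⟩ := exists_algHom_of_splits k _ K h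
  let i₀ : Fin n := ⟨0, Nat.pos_of_ne_zero hn⟩
  let E : Fin n → Fin n → A → Module.End K (Fin N → K) := fun i j a =>
    Matrix.toLinAlgEquiv' (φ (Matrix.single i j a))
  have hmul : ∀ i j l a b v, E i j a (E j l b v) = E i l (a * b) v := fun i j l a b v => by
    simp [E, ← Module.End.mul_apply, ← map_mul]
  have hne : ∀ i j j' l a b v, j ≠ j' → E i j a (E j' l b v) = 0 := fun i j j' l a b v hjj => by
    simp [E, ← Module.End.mul_apply, ← map_mul, hjj]
  let W : Submodule K (Fin N → K) := LinearMap.range (E i₀ i₀ 1)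
  have hW : ∀ w ∈ W, E i₀ i₀ 1 w = w := by
    rintro _ ⟨v, rfl⟩
    rw [hmul, one_mul]
  have hmem : ∀ j a v, E i₀ j a v ∈ W := fun j a v => ⟨E i₀ j a v, by rw [hmul, one_mul]⟩
  have hsum : ∀ v, ∑ i, E i i 1 v = v := fun v => by
    have : ∑ i : Fin n, Matrix.single i i (1 : A) = 1 := by
      ext a b
      simp [Matrix.sum_apply, Matrix.one_apply, Matrix.single_apply, ite_and]
    show ∑ i, Matrix.toLinAlgEquiv' (φ (Matrix.single i i 1)) v = v
    rw [← LinearMap.sum_apply, ← map_sum, ← map_sum, this, map_one, map_one, Module.End.one_apply]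
  let Φ : (Fin N → K) ≃ₗ[K] (Fin n → W) :=
    { toFun := fun v i => ⟨E i₀ i 1 v, hmem i 1 v⟩
      map_add' := fun v w => by ext1 i; exact Subtype.ext (map_add _ v w)
      map_smul' := fun c v => by ext1 i; exact Subtype.ext (map_smul _ c v)
      invFun := fun w => ∑ i, E i i₀ 1 (w i)
      left_inv := fun v => by simp [hmul, hsum]
      right_inv := fun w => by
        ext1 i
        refine Subtype.ext ?_
        show E i₀ i 1 (∑ j, E j i₀ 1 (w j)) = w i
        rw [map_sum, Finset.sum_eq_single i (fun j _ hj => hne _ _ _ _ _ _ _ (Ne.symm hj))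
          (fun h => (h (Finset.mem_univ _)).elim), hmul, one_mul, hW _ (w i).2] }
  let ρ : A →ₐ[k] Module.End K W :=
    { toFun := fun a => (E i₀ i₀ a).restrict fun v _ => hmem i₀ a v
      map_one' := by ext1 w; exact Subtype.ext (hW _ w.2)
      map_mul' := fun a b => by ext1 w; exact Subtype.ext (hmul _ _ _ a b w).symm
      map_zero' := by ext1 w; exact Subtype.ext (by simp [E])
      map_add' := fun a b => by ext1 w; exact Subtype.ext (by simp [E, Matrix.single_add])
      commutes' := fun c => by
        ext1 w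
        refine Subtype.ext ?_
        show E i₀ i₀ (algebraMap k A c) (w : Fin N → K) = c • (w : Fin N → K)
        rw [Algebra.algebraMap_eq_smul_one]
        conv_rhs => rw [← hW _ w.2]
        simp [E, ← Matrix.smul_single, Matrix.smul_mulVec] }
  let b := Module.finBasis K W
  refine splits_of_algHom k A K (Module.finrank K W)
    (((algEquivMatrix b).restrictScalars k).toAlgHom.comp ρ) ?_
  have h1 := Φ.finrank_eq
  rw [Module.finrank_fin_fun, Module.finrank_pi_fintype, Finset.sum_const, Finset.card_univ,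
    Fintype.card_fin, smul_eq_mul] at h1
  rw [Module.finrank_matrix, h1] at hN
  simp only [Fintype.card_fin] at hN
  refine Nat.eq_of_mul_eq_mul_left (n := n * n) (Nat.mul_pos (Nat.pos_of_ne_zero hn) (Nat.pos_of_ne_zero hn)) ?_
  rw [← hN]; ring

end Corner

section Existence

theorem exists_maximal_field_splits (D : Type v) [DivisionRing D] [Algebra k D]
    [Algebra.IsCentral k D] [FiniteDimensional k D] :
    ∃ (L : Type v) (_ : Field L) (_ : Algebra k L), FiniteDimensional k L ∧
      Algebra.IsSeparable k L ∧ Curves.Splits k Dᵐᵒᵖ L := by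
  obtain ⟨L, hc, hmax, hs⟩ := exists_separable_maximal k D
  have hC := centralizer_eq_of_maximal k D L hc hmax
  have := isSimpleRing_subalgebra k D L
  have hdim := finrank_mul_finrank_centralizer k D L
  rw [hC] at hdim
  let _ : Field L :=
    { (inferInstance : Ring L), divisionRingOfFiniteDimensional k L with
      mul_comm := fun a b => Subtype.ext (hc a a.2 b b.2) }
  have := CSA.finiteDimensional_mulOpposite k D
  have : FiniteDimensional L D := Module.Finite.of_restrictScalars_finite k L D
  have : SMulCommClass L Dᵐᵒᵖ D := ⟨fun l a x => (mul_assoc (l : D) x a.unop).symm⟩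
  refine ⟨L, inferInstance, inferInstance, inferInstance, hs, ?_⟩
  refine splits_of_algHom k Dᵐᵒᵖ L (Module.finrank L D)
    (((algEquivMatrix (Module.finBasis L D)).restrictScalars k).toAlgHom.comp
      (Algebra.lsmul k L D)) ?_
  have h := Module.finrank_mul_finrank k L D
  rw [← (MulOpposite.opLinearEquiv k (M := D)).finrank_eq, ← hdim] at *
  have := Nat.eq_of_mul_eq_mul_left Module.finrank_pos h
  rw [this]

theorem exists_separable_splits_division (D : Type v) [DivisionRing D] [Algebra k D]
    [Algebra.IsCentral k D] [FiniteDimensional k D] :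
    ∃ (F : IntermediateField k (SeparableClosure k)), FiniteDimensional k F ∧
      Curves.Splits k D F := by
  have := CSA.finiteDimensional_mulOpposite k D
  obtain ⟨L, _, _, _, _, h⟩ := exists_maximal_field_splits k Dᵐᵒᵖ
  let f : L →ₐ[k] SeparableClosure k := IsSepClosed.lift
  have := CSA.finiteDimensional_mulOpposite k Dᵐᵒᵖ
  have hD := splits_algEquiv k D L _ (AlgEquiv.opOp k D) h
  refine ⟨f.fieldRange, Module.Finite.equiv (AlgEquiv.ofInjectiveField f).toLinearEquiv, ?_⟩
  exact splits_of_algHom_field k D _ L (AlgEquiv.ofInjectiveField f).toAlgHom hD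

variable (A : Type v) [Ring A] [Algebra k A] [Algebra.IsCentral k A] [IsSimpleRing A]
  [FiniteDimensional k A]

theorem exists_division : ∃ (n : ℕ) (_ : n ≠ 0) (D : Type v) (_ : DivisionRing D) (_ : Algebra k D)
    (_ : Algebra.IsCentral k D) (_ : FiniteDimensional k D),
    Nonempty (A ≃ₐ[k] Matrix (Fin n) (Fin n) D) := by
  have := IsArtinianRing.of_finite k A
  obtain ⟨n, hn, D, _, _, _, ⟨e⟩⟩ := IsSimpleRing.exists_algEquiv_matrix_divisionRing_finite k A
  have := Algebra.IsCentral.of_algEquiv k A _ e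
  exact ⟨n, NeZero.ne n, D, _, _, isCentral_of_matrix k D n (NeZero.ne n), inferInstance, ⟨e⟩⟩

theorem exists_separable_splits :
    ∃ (F : IntermediateField k (SeparableClosure k)), FiniteDimensional k F ∧
      Curves.Splits k A F := by
  obtain ⟨n, hn, D, _, _, _, _, ⟨e⟩⟩ := exists_division k A
  have : Nonempty (Fin n) := ⟨⟨0, Nat.pos_of_ne_zero hn⟩⟩
  have := isCentral_matrix k D n
  obtain ⟨F, hF, h⟩ := exists_separable_splits_division k D
  exact ⟨F, hF, splits_algEquiv k A F _ e (splits_matrix k D F n hn h)⟩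

theorem exists_galois_splits :
    ∃ (F : IntermediateField k (SeparableClosure k)), FiniteDimensional k F ∧ IsGalois k F ∧
      Curves.Splits k A F := by
  obtain ⟨F, hF, h⟩ := exists_separable_splits k A
  refine ⟨IntermediateField.normalClosure k F (SeparableClosure k), ?_, ?_, ?_⟩
  · infer_instance
  · infer_instance
  · exact splits_of_algHom_field k A _ F
      (IntermediateField.inclusion (IntermediateField.le_normalClosure F)) h

theorem splits_separableClosure : Curves.Splits k A (SeparableClosure k) := by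
  obtain ⟨F, -, h⟩ := exists_separable_splits k A
  exact splits_of_algHom_field k A _ F F.val h

theorem splits_algebraicClosure : Curves.Splits k A (AlgebraicClosure k) :=
  splits_of_algHom_field k A _ (SeparableClosure k) IsAlgClosed.lift (splits_separableClosure k A)

end Existence

theorem csa_of_splits (A : Type v) [Ring A] [Algebra k A] (K : Type w) [Field K] [Algebra k K]
    (h : Curves.Splits k A K) :
    Algebra.IsCentral k A ∧ IsSimpleRing A ∧ FiniteDimensional k A := by
  obtain ⟨N, hN, ⟨e⟩⟩ := h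
  have : Nonempty (Fin N) := ⟨⟨0, Nat.pos_of_ne_zero hN⟩⟩
  have : Nontrivial A := by
    by_contra hA
    rw [not_nontrivial_iff_subsingleton] at hA
    have : Subsingleton (K ⊗[k] A) := inferInstance
    exact not_subsingleton (Matrix (Fin N) (Fin N) K) e.symm.toEquiv.subsingleton
  have : Module.Finite K (K ⊗[k] A) := Module.Finite.equiv e.toLinearEquiv.symm
  have : IsSimpleRing (K ⊗[k] A) := .of_ringEquiv e.symm.toRingEquiv inferInstance
  have : IsSimpleRing (A ⊗[k] K) :=
    .of_ringEquiv (Algebra.TensorProduct.comm k K A).toRingEquiv inferInstance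
  refine ⟨⟨fun c hc => ?_⟩, isSimpleRing_of_tensor k A K,
    Module.Finite.of_finite_tensorProduct_of_faithfullyFlat K⟩
  have h1 : e (1 ⊗ₜ[k] c) ∈ Subalgebra.center K (Matrix (Fin N) (Fin N) K) :=
    Subalgebra.mem_center_iff.2 fun M => by
      obtain ⟨t, rfl⟩ := e.surjective M
      rw [← map_mul, ← map_mul]
      congr 1
      induction t with
      | zero => simp
      | add x y hx hy => rw [add_mul, mul_add, hx, hy]
      | tmul x a => simp [Subalgebra.mem_center_iff.1 hc a]
  obtain ⟨l, hl⟩ := Algebra.IsCentral.out (K := K) (D := Matrix (Fin N) (Fin N) K) h1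
  have h2 : (1 : K) ⊗ₜ[k] c = l ⊗ₜ[k] (1 : A) := e.injective (hl.symm.trans
    ((e.commutes l).symm.trans (by rw [Algebra.TensorProduct.algebraMap_apply]; rfl)))
  obtain ⟨ρ, hρ⟩ : ∃ f : A →ₗ[k] k, f 1 = 1 := by
    obtain ⟨f, hf⟩ := LinearMap.exists_leftInverse_of_injective (Algebra.linearMap k A)
      (LinearMap.ker_eq_bot.2 (RingHom.injective (algebraMap k A)))
    exact ⟨f, by simpa using LinearMap.congr_fun hf 1⟩
  have h3 := congrArg (TensorProduct.rid k K ∘ LinearMap.lTensor K ρ) h2
  simp [hρ] at h3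
  refine ⟨ρ c, Algebra.TensorProduct.includeRight_injective (R := k) (A := K) (B := A)
    (RingHom.injective (algebraMap k K)) ?_⟩
  show (1 : K) ⊗ₜ[k] algebraMap k A (ρ c) = 1 ⊗ₜ[k] c
  rw [h2, Algebra.algebraMap_eq_smul_one, TensorProduct.tmul_smul, ← h3, TensorProduct.smul_tmul']

end Groth.Agent.CSACentralizer
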